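import Cfsg.Agent.TID.SO.Red2
import Cfsg.Agent.H19.Odd.Heis

/-!
# The row `KSporOdd`, part B (helper1, project TID): Sylow subgroups of order `p ^ 3`

* `card_eq` : `|D| = p ^ 2` if `p ^ 4` does not divide `|G|`;
* `free_dvd` : a subgroup of `C(z)` meeting `C(D)` trivially has order dividing `p ^ 2 - p`;
* `noSit_of_idx`, `noSit_of_idx'`, `noSit_of_idx_two` : master criteria;
* `pc_card` : all `p`-central elements have centralizers of the same order (non-abelian Sylow subgroups);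
* `false_of_pow`, `exists_of_caseII` : small tools.
-/

set_option autoImplicit false
set_option linter.unusedSectionVars false

namespace Cfsg.Agent.TID.SO.B

open Cfsg Subgroup Cfsg.Agent.TID Cfsg.Agent.TID.SO

universe u

variable {G : Type u} [Group G] [Finite G] {p : ℕ} [hp : Fact p.Prime] {D : Subgroup G}

/-- `|D| = p ^ 2` -/
theorem card_eq (h : Sit p D) (h4 : ¬ p ^ 4 ∣ Nat.card G) : Nat.card D = p ^ 2 := by
  obtain ⟨n, hn⟩ := IsPGroup.iff_card.1 h.loc.pgrp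
  have h2 : 2 ≤ n := (Nat.pow_dvd_pow_iff_le_right hp.out.one_lt).1 (hn ▸ h.loc.rk.sq_dvd)
  have h3 : n ≤ 2 := by
    by_contra h5
    apply h4
    rw [← D.index_mul_card, show p ^ 4 = p * p ^ 3 by ring, hn]
    exact Nat.mul_dvd_mul h.nsyl (pow_dvd_pow p (by omega))
  rw [hn, le_antisymm h3 h2]

theorem elem_ab (h : Sit p D) (h4 : ¬ p ^ 4 ∣ Nat.card G) : IsElementaryAbelian p D := by
  obtain ⟨V, h1, h2, h3⟩ := h.loc.rk
  rwa [← Subgroup.eq_of_le_of_card_ge h1 (by rw [h3, card_eq h h4])]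

/-- a free action on `D - ⟨z⟩` -/
theorem free_dvd (hE : IsElementaryAbelian p D) (hc : Nat.card D = p ^ 2) {z : G} (hz : z ∈ D) (hzp : orderOf z = p)
    {R : Subgroup G} (hRz : R ≤ C1 z) (hRD : R ≤ Nz D) (h0 : R ⊓ Cz D = ⊥) : Nat.card R ∣ p ^ 2 - p := by
  classical
  let X := {v : G // v ∈ D ∧ v ∉ zpowers z}
  have hN : ∀ c ∈ R, ∀ v : G, c * v * c⁻¹ ∈ zpowers z → v ∈ zpowers z := fun c hc v hv =>
    (mem_normalizer_iff.1 (C1_le_Nz_zpowers z (hRz hc)) v).2 hv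
  let _ : MulAction R X :=
    { smul := fun c v => ⟨c * v.1 * (c : G)⁻¹, conj_mem (hRD c.2) v.2.1, fun h => v.2.2 (hN _ c.2 _ h)⟩
      one_smul := fun v => Subtype.ext (by
        change (1 : G) * v.1 * (1 : G)⁻¹ = v.1
        group)
      mul_smul := fun a b v => Subtype.ext (by
        change ((a : G) * b) * v.1 * ((a : G) * b)⁻¹ = a * (b * v.1 * (b : G)⁻¹) * (a : G)⁻¹
        group) }
  have hX : Nat.card X = p ^ 2 - p := by
    have h1 : Nat.card X = ((D : Set G) \ (zpowers z : Set G)).ncard := Nat.card_coe_set_eq _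
    rw [h1, Set.ncard_sdiff (show (zpowers z : Set G) ⊆ D from zpowers_le.2 hz), ← Nat.card_coe_set_eq,
      ← Nat.card_coe_set_eq]
    change Nat.card D - Nat.card (zpowers z) = _
    rw [hc, Nat.card_zpowers, hzp]
  have hst : ∀ v : X, MulAction.stabilizer R v = ⊥ := by
    intro v
    rw [eq_bot_iff]
    intro c hc'
    have h1 : (c : G) * v.1 * (c : G)⁻¹ = v.1 := congrArg Subtype.val (MulAction.mem_stabilizer_iff.1 hc')
    have hv1 : v.1 ≠ 1 := fun h => v.2.2 (h ▸ one_mem _)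
    obtain ⟨-, h2⟩ := exists_pair hzp (el_order hE v.2.1 hv1) (el_comm hE hz v.2.1) v.2.2
    have h3 : closure ({z, v.1} : Set G) = D := by
      refine Subgroup.eq_of_le_of_card_ge ((closure_le _).2 ?_) (by rw [h2, hc])
      rintro x (rfl | rfl)
      · exact hz
      · exact v.2.1
    have h4 : (c : G) ∈ Cz D := by
      rw [← h3, Cz, centralizer_closure, mem_centralizer_iff]
      rintro x (rfl | rfl)
      · exact mem_C1.1 (hRz c.2)
      · exact (mul_inv_eq_iff_eq_mul.1 h1).symm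
    have h5 : (c : G) ∈ R ⊓ Cz D := ⟨c.2, h4⟩
    rw [h0, mem_bot] at h5
    exact mem_bot.2 (Subtype.ext h5)
  rw [← hX, Nat.card_congr (MulAction.selfEquivOrbitsQuotientProd hst), Nat.card_prod]
  exact dvd_mul_left _ _

theorem exists_pc (h : Sit p D) (h1 : CaseI p D) : ∃ z ∈ D, PC p z := by
  obtain ⟨P, z, -, -, h2, h3, h4⟩ := central_of_caseI h.loc h1
  exact ⟨z, h2, h3, not_dvd_index h4⟩

/-- **Master criterion** for `|G|_p = p ^ 3` -/
theorem noSit_of_idx (h4 : ¬ p ^ 4 ∣ Nat.card G) {r k : ℕ} (hr : r.Prime) (hk : ¬ r ^ k ∣ p ^ 2 - p)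
    (h1 : ∀ z : G, PC p z → r ^ k ∣ Nat.card (C1 z))
    (h2 : ∀ D : Subgroup G, Sit p D → ∀ y : G, orderOf y = r → ¬ D ≤ C1 y) : NoSit p G := by
  intro D hD
  have := Fact.mk hr
  obtain ⟨z, hz, hzc⟩ := exists_pc hD (hD.caseI fun h5 => h4 ((pow_dvd_pow p (by norm_num)).trans h5))
  obtain ⟨R, hR⟩ := Sylow.exists_subgroup_card_pow_prime r (h1 z hzc)
  have hc : Nat.card (R.map (C1 z).subtype) = r ^ k := by rw [card_map_of_injective (subtype_injective _), hR]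
  have h0 : R.map (C1 z).subtype ⊓ Cz D ≠ ⊥ := fun h0 => hk (hc ▸ free_dvd (elem_ab hD h4) (card_eq hD h4) hz hzc.1
    (map_subtype_le _) ((map_subtype_le _).trans (hD.loc.ti.cent_le hz (ne_one_of_order hzc.1))) h0)
  have hP : IsPGroup r ↥(R.map (C1 z).subtype ⊓ Cz D) := (IsPGroup.of_card hc).to_le inf_le_left
  obtain ⟨y, hy, hyr, -⟩ := exists_fix hP hP h0 le_normalizer
  exact h2 D hD y hyr fun d hd => mem_C1.2 (mem_Cz.1 hy.2 d hd).symm

theorem noSit_of_idx' (h4 : ¬ p ^ 4 ∣ Nat.card G) {r k : ℕ} (hr : r.Prime) (hk : ¬ r ^ k ∣ p ^ 2 - p)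
    (h1 : ∀ z : G, PC p z → r ^ k ∣ Nat.card (C1 z)) (h2 : ∀ y : G, orderOf y = r → ¬ p ^ 2 ∣ Nat.card (C1 y)) :
    NoSit p G :=
  noSit_of_idx h4 hr hk h1 fun _ hD y hy h => h2 y hy (hD.loc.rk.sq_dvd.trans (card_dvd_of_le h))

theorem noSit_of_idx_two (hG : IsCharacteristicTwoType G) (hp2 : p ≠ 2) (h4 : ¬ p ^ 4 ∣ Nat.card G) {k : ℕ}
    (hk : ¬ 2 ^ k ∣ p ^ 2 - p) (h1 : ∀ z : G, PC p z → 2 ^ k ∣ Nat.card (C1 z)) : NoSit p G :=
  noSit_of_idx h4 Nat.prime_two hk h1 fun _ hD _ hy h =>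
    false_of_charTwo hG hp2 hD.loc.pgrp hD.loc.ti le_rfl hD.loc.rk hy h

/-! ### `p`-central elements -/

theorem exists_sylow {z : G} (h : PC p z) : ∃ P : Sylow p G, z ∈ P ∧ (P : Subgroup G) ≤ C1 z := by
  obtain ⟨P⟩ : Nonempty (Sylow p (C1 z)) := inferInstance
  have hz : (⟨z, mem_C1.2 rfl⟩ : C1 z) ∈ P := by
    have h1 : IsPGroup p (zpowers (⟨z, mem_C1.2 rfl⟩ : C1 z)) :=
      IsPGroup.of_card (n := 1) (by rw [Nat.card_zpowers, pow_one, orderOf_mk, h.1])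
    obtain ⟨Q, hQ⟩ := h1.exists_le_sylow
    obtain ⟨g, rfl⟩ := MulAction.exists_smul_eq (C1 z) Q P
    refine ⟨_, hQ (mem_zpowers _), Subtype.ext ?_⟩
    change (g : G) * z * (g : G)⁻¹ = z
    rw [← mem_C1.1 g.2, mul_inv_cancel_right]
  have h2 : ¬ p ∣ ((P : Subgroup (C1 z)).map (C1 z).subtype).index := by
    rw [index_map_subtype]
    exact fun h3 => ((Nat.Prime.dvd_mul hp.out).1 h3).elim P.not_dvd_index h.2
  exact ⟨(P.isPGroup'.map _).toSylow h2, ⟨_, hz, rfl⟩, map_subtype_le _⟩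

theorem pc_of_dvd {z : G} (hz : orderOf z = p) {n : ℕ} (h1 : p ^ n ∣ Nat.card (C1 z)) (h2 : ¬ p ^ (n + 1) ∣ Nat.card G) :
    PC p z := by
  refine ⟨hz, fun h3 => h2 ?_⟩
  rw [← (C1 z).index_mul_card, pow_succ']
  exact Nat.mul_dvd_mul h3 h1

/-- two central elements of order `p` of a group of order at most `p ^ 3` -/
theorem comm_of_two {P : Subgroup G} (hP : IsPGroup p P) (h4 : ¬ p ^ 4 ∣ Nat.card P) {x z : G} (hx : x ∈ P) (hz : z ∈ P)
    (hxp : orderOf x = p) (hzp : orderOf z = p) (hxc : P ≤ C1 x) (hzc : P ≤ C1 z) (hne : z ∉ zpowers x) {a b : G}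
    (ha : a ∈ P) (hb : b ∈ P) : a * b = b * a := by
  obtain ⟨-, h2⟩ := exists_pair hxp hzp (mem_C1.1 (hxc hz)) hne
  have h3 : closure ({x, z} : Set G) ≤ (center P).map P.subtype := by
    refine (closure_le _).2 ?_
    rintro y (rfl | rfl)
    · exact ⟨⟨y, hx⟩, mem_center_iff.2 fun g => Subtype.ext (mem_C1.1 (hxc g.2)).symm, rfl⟩
    · exact ⟨⟨y, hz⟩, mem_center_iff.2 fun g => Subtype.ext (mem_C1.1 (hzc g.2)).symm, rfl⟩
  have h5 : p ^ 2 ∣ Nat.card (center P) := by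
    rw [← h2, ← card_map_of_injective P.subtype_injective]
    exact card_dvd_of_le h3
  obtain ⟨m, hm⟩ := IsPGroup.iff_card.1 (hP.to_quotient (center P))
  have h6 : m ≤ 1 := by
    by_contra h7
    apply h4
    rw [card_eq_card_quotient_mul_card_subgroup (center P), hm, show p ^ 4 = p ^ 2 * p ^ 2 by ring]
    exact Nat.mul_dvd_mul (pow_dvd_pow p (by omega)) h5
  have hcyc : IsCyclic (P ⧸ center P) := by
    rcases Nat.le_one_iff_eq_zero_or_eq_one.1 h6 with rfl | rfl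
    · have := (Nat.card_eq_one_iff_unique.1 (by rw [hm, pow_zero])).1
      exact isCyclic_of_subsingleton
    · exact isCyclic_of_prime_card (by rw [hm, pow_one])
  exact congrArg Subtype.val ((MonoidHom.isMulCommutative_of_isCyclic_of_ker_le_center (QuotientGroup.mk' (center P))
    (QuotientGroup.ker_mk' _).le).is_comm.comm ⟨a, ha⟩ ⟨b, hb⟩)

/-- **`p`-central elements** for a non-abelian Sylow subgroup of order `p ^ 3` -/
theorem pc_card (h4 : ¬ p ^ 4 ∣ Nat.card G) {Q : Subgroup G} (hQ : IsPGroup p Q) {a b : G} (ha : a ∈ Q) (hb : b ∈ Q)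
    (hab : a * b ≠ b * a) {x z : G} (hx : PC p x) (hz : PC p z) : Nat.card (C1 z) = Nat.card (C1 x) := by
  obtain ⟨P, hP1, hP2⟩ := exists_sylow hx
  obtain ⟨P', hP1', hP2'⟩ := exists_sylow hz
  obtain ⟨T, hT⟩ := hQ.exists_le_sylow
  obtain ⟨g, hg⟩ := MulAction.exists_smul_eq G P' P
  obtain ⟨t, ht⟩ := MulAction.exists_smul_eq G T P
  have hmem : ∀ (S : Sylow p G) (c y : G), c • S = P → y ∈ S → c * y * c⁻¹ ∈ P := by
    rintro S c y rfl hy
    exact ⟨y, hy, rfl⟩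
  have ho : orderOf (g * z * g⁻¹) = p := by rw [← MulAut.conj_apply, MulEquiv.orderOf_eq, hz.1]
  have hc : (P : Subgroup G) ≤ C1 (g * z * g⁻¹) := by
    rw [← hg]
    rintro _ ⟨y, hy, rfl⟩
    refine mem_C1.2 ?_
    change g * z * g⁻¹ * (g * y * g⁻¹) = g * y * g⁻¹ * (g * z * g⁻¹)
    calc g * z * g⁻¹ * (g * y * g⁻¹) = g * (z * y) * g⁻¹ := by group
      _ = g * (y * z) * g⁻¹ := by rw [mem_C1.1 (hP2' hy)]
      _ = _ := by group
  have h1 : g * z * g⁻¹ ∈ zpowers x := by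
    by_contra hne
    apply hab
    have h2 := comm_of_two P.isPGroup' (fun h => h4 (h.trans (card_subgroup_dvd_card _))) hP1 (hmem P' g z hg hP1') hx.1 ho
      hP2 hc hne (hmem T t a ht (hT ha)) (hmem T t b ht (hT hb))
    calc a * b = t⁻¹ * (t * a * t⁻¹ * (t * b * t⁻¹)) * t := by group
      _ = t⁻¹ * (t * b * t⁻¹ * (t * a * t⁻¹)) * t := by rw [h2]
      _ = b * a := by group
  exact H19.Odd.Heis.card_cent_eq (g := g) (Subgroup.eq_of_le_of_card_ge (zpowers_le.2 h1)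
    (by rw [Nat.card_zpowers, Nat.card_zpowers, hx.1, ho]))

/-! ### small tools -/

omit hp in
theorem dvd_of_comm {x y : G} (h : x * y = y * x) : orderOf y ∣ Nat.card (C1 x) :=
  orderOf_dvd_natCard _ (mem_C1.2 h)

omit hp [Finite G] in
theorem card_C1_equiv {H : Type*} [Group H] (e : G ≃* H) (x : G) : Nat.card (C1 (e x)) = Nat.card (C1 x) := by
  refine (Nat.card_congr (e.toEquiv.subtypeEquiv fun a => ?_)).symm
  change a ∈ C1 x ↔ e a ∈ C1 (e x)
  rw [mem_C1, mem_C1, ← map_mul, ← map_mul, e.injective.eq_iff]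

/-- a centralizer whose order is a power of `p` -/
theorem false_of_pow (h : Sit p D) {v : G} (hv : v ∈ D) {n : ℕ} (hn : Nat.card (C1 v) ∣ p ^ n) : False := by
  obtain ⟨k, -, hk⟩ := (Nat.dvd_prime_pow hp.out).1 hn
  exact h.ncen ((IsPGroup.of_card hk).to_le (Cz_le_C1 hv))

/-- in the second case some element of `D` has a centralizer of order divisible by `p ^ 4` -/
theorem exists_of_caseII (h : Loc p D) (h2 : CaseII p D) : ∃ v ∈ D, orderOf v = p ∧ p ^ 4 ∣ Nat.card (C1 v) := by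
  obtain ⟨g, hg, hc, -⟩ := h2
  obtain ⟨v, hv, hvp, hvc⟩ := exists_fix h.pgrp h.pgrp h.rk.ne_bot le_normalizer
  refine ⟨v, hv, hvp, ?_⟩
  have h0 := h.ti.inf_cj hg
  have hcomm : ∀ (a : D) (b : cj g D), Commute (D.subtype a) ((cj g D).subtype b) := fun a b => mem_Cz.1 (hc b.2) a a.2
  have hinj : Function.Injective (D.subtype.noncommCoprod (cj g D).subtype hcomm) := by
    rw [injective_iff_map_eq_one]
    rintro ⟨a, b⟩ hab
    have h1 : (a : G) * b = 1 := hab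
    have h3 : (b : G) ∈ D ⊓ cj g D := mem_inf.2 ⟨by rw [eq_inv_of_mul_eq_one_right h1]; exact D.inv_mem a.2, b.2⟩
    rw [h0, mem_bot] at h3
    rw [h3, mul_one] at h1
    exact Prod.ext (Subtype.ext h1) (Subtype.ext h3)
  have hle : (D.subtype.noncommCoprod (cj g D).subtype hcomm).range ≤ C1 v := by
    rintro _ ⟨⟨a, b⟩, rfl⟩
    exact mul_mem (hvc a.2) (Cz_le_C1 hv (hc b.2))
  have h5 := card_dvd_of_le hle
  rw [← Nat.card_congr (MonoidHom.ofInjective hinj).toEquiv, Nat.card_prod, card_cj] at h5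
  rw [show p ^ 4 = p ^ 2 * p ^ 2 by ring]
  exact (Nat.mul_dvd_mul h.rk.sq_dvd h.rk.sq_dvd).trans h5

end Cfsg.Agent.TID.SO.B
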