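import Cfsg.Agent.TID.SO.B.Lst
import Cfsg.Agent.H19.Odd.HeEl
import Cfsg.Agent.H471.U33.He
import Cfsg.Agent.H436.HeFive
import Cfsg.Agent.H394.PBHe

/-!
# The row `KSporOdd`, part B (helper1, project TID): `He`, `p = 3, 7`
-/

set_option autoImplicit false
set_option maxRecDepth 100000

namespace Cfsg.Agent.TID.SO.B

open Cfsg Subgroup Cfsg.Agent.TID Cfsg.Agent.TID.SO

universe u

namespace He

open Cfsg.Spor.He (Gen)
open Cfsg.Agent.SporadicB.HePerm (act wd)
open Cfsg.Agent.FixBN.HeStab Cfsg.Agent.KFacts.He.Lv Cfsg.Agent.CpAutHe.Cnt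
open Cfsg.Agent.H19.Odd Cfsg.Agent.H19.Odd.HeCnt Cfsg.Agent.H19.Odd.HeEl
open Cfsg.Agent.CpAutHe.Seven (ne_one_of_act)

theorem card_He : Nat.card Spor.He = 4030387200 := NotCT.Orders.he ⟨MulEquiv.refl _⟩

theorem fin_He : Finite Spor.He := Nat.finite_of_card_ne_zero (by rw [card_He]; norm_num)

/-- an element of order 5 commuting with `XA` (word of helper736) -/
def W5 : List Gen := [.b, .c, .f, .g, .d, .f, .g, .c]

theorem order_A : orderOf (wd XA) = 3 := orderOf_of (by norm_num) A_pow A_ne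
theorem order_B : orderOf (wd XB) = 3 :=
  orderOf_of (by norm_num) (pow_of_chk (by decide +kernel)) (ne_one_of_act 0 (by decide +kernel))
theorem order_W5 : orderOf (wd W5) = 5 :=
  orderOf_of (by norm_num) (pow_of_chk (by decide +kernel)) (ne_one_of_act 0 (by decide +kernel))
theorem A_W5 : Commute (wd XA) (wd W5) := comm_of_chk (by decide +kernel)
theorem B_gf : Commute (wd XB) (wd [.g, .f]) := comm_of_chk (by decide +kernel)

theorem order_gf : orderOf (wd [.g, .f]) = 2 ^ (1 + 1) := by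
  have : Fact (Nat.Prime 2) := ⟨Nat.prime_two⟩
  refine orderOf_eq_prime_pow ?_ (pow_of_chk (by decide +kernel))
  rw [pow_one, ← wd_pw]
  exact ne_one_of_act 3 (by decide +kernel)

theorem five_A : 5 ∣ Nat.card (C1 (wd XA)) := by
  have := fin_He
  rw [← order_W5]
  exact dvd_of_comm A_W5.eq

theorem cube_A : 3 ^ 3 ∣ Nat.card (C1 (wd XA)) := by
  have := fin_He
  have : Fact (Nat.Prime 3) := ⟨Nat.prime_three⟩
  exact (Heis.card_P_dvd A_pow U3_pow V3_pow A_U3 A_V3 U3_V3 (by norm_num) A_ne).trans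
    (card_dvd_of_le (Heis.P_le_centralizer A_U3 A_V3 U3_V3 (Commute.refl _) A_U3 A_V3))

theorem not_A : ¬ 7 ^ 2 ∣ Nat.card (C1 (wd XA)) := by
  have := fin_He
  intro h
  have h1 : 8 * 27 * 5 * 49 ∣ Nat.card (C1 (wd XA)) :=
    Nat.Coprime.mul_dvd_of_dvd_of_dvd (by norm_num) (Nat.Coprime.mul_dvd_of_dvd_of_dvd (by norm_num)
      (Nat.Coprime.mul_dvd_of_dvd_of_dvd (by norm_num) eight cube_A) five_A) h
  have h2 := (Nat.le_of_dvd Nat.card_pos h1).trans cardA
  norm_num at h2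

theorem not_B : ¬ 7 ^ 2 ∣ Nat.card (C1 (wd XB)) := by
  have := fin_He
  intro h
  have h3 : 3 ∣ Nat.card (C1 (wd XB)) := order_B ▸ dvd_of_comm rfl
  have h4 : 2 ^ (1 + 1) ∣ Nat.card (C1 (wd XB)) := order_gf ▸ dvd_of_comm B_gf.eq
  have h1 : 4 * 3 * 49 ∣ Nat.card (C1 (wd XB)) :=
    Nat.Coprime.mul_dvd_of_dvd_of_dvd (by norm_num) (Nat.Coprime.mul_dvd_of_dvd_of_dvd (by norm_num) h4 h3) h
  have h2 := (Nat.le_of_dvd Nat.card_pos h1).trans cardB
  norm_num at h2

/-- the elements of order 3 -/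
theorem three_cases {b : Spor.He} (hb : orderOf b = 3) :
    Nat.card (C1 b) = Nat.card (C1 (wd XA)) ∨ Nat.card (C1 b) = Nat.card (C1 (wd XB)) := by
  have := fin_He
  have h3 : Fact (Nat.Prime 3) := ⟨Nat.prime_three⟩
  have key : ∀ {y g x : Spor.He}, g * y * g⁻¹ = x → Nat.card (C1 y) = Nat.card (C1 x) := by
    intro y g x h
    exact Heis.card_cent_eq (g := g) (by rw [h])
  obtain ⟨y, hy, g, hg⟩ := Heis.reps3 A_pow U3_pow V3_pow A_U3 A_V3 U3_V3 (by norm_num) A_ne (not_dvd (by decide)) hb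
  rw [show Nat.card (C1 b) = Nat.card (C1 y) from Heis.card_cent_eq hg]
  rcases hy with rfl | rfl | ⟨i, hi, rfl⟩
  · exact Or.inl rfl
  · exact Or.inl (key g3u)
  · interval_cases i
    · rw [pow_zero, mul_one]
      exact Or.inl (key g3v)
    · rw [pow_one, ← wd_append]
      exact Or.inr (key g3a)
    · rw [pow_two, ← wd_append, ← wd_append]
      exact Or.inr (key g3b)

theorem noSit_three : NoSit 3 Spor.He := by
  have := fin_He
  have h3 : Fact (Nat.Prime 3) := ⟨Nat.prime_three⟩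
  have h4 : ¬ 3 ^ 4 ∣ Nat.card Spor.He := by rw [card_He]; norm_num
  refine noSit_of_idx' (r := 5) (k := 1) h4 (by norm_num) (by norm_num) (fun z hz => ?_) fun y hy h9 => ?_
  · have hne : wd U3 * wd V3 ≠ wd V3 * wd U3 := by
      rw [U3_V3, pow_one]
      exact fun h => A_ne (mul_eq_left.1 h)
    rw [pc_card h4 (Heis.isPGroup_P A_pow U3_pow V3_pow A_U3 A_V3 U3_V3) (Heis.mem_P_u _ _ _) (Heis.mem_P_v _ _ _) hne
      (pc_of_dvd order_A cube_A h4) hz, pow_one]
    exact five_A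
  · exact absurd (h9.trans (H436.HeFive.cent5 y hy)) (by norm_num)

theorem noSit_seven : NoSit 7 Spor.He := by
  have := fin_He
  have h7 : Fact (Nat.Prime 7) := ⟨by norm_num⟩
  refine noSit_of_all fun r hr hrp hc => ?_
  obtain ⟨y, hy, h1⟩ := hc.sq_dvd
  have h2 := prime_mem card_He [(2, 10), (3, 3), (5, 2), (7, 3), (17, 1)] (by decide +kernel) hr hy
  simp only [List.map_cons, List.map_nil, List.mem_cons, List.not_mem_nil, or_false] at h2
  rcases h2 with rfl | rfl | rfl | rfl | rfl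
  · rcases H471.U33.card_he ⟨MulEquiv.refl _⟩ hy with h3 | h3
    · rw [h3] at h1; norm_num at h1
    · rw [h3] at h1; norm_num at h1
  · rcases three_cases hy with h3 | h3
    · exact not_A (h3 ▸ h1)
    · exact not_B (h3 ▸ h1)
  · exact absurd (h1.trans (H436.HeFive.cent5 y hy)) (by norm_num)
  · exact hrp rfl
  · rw [H394.PBHe.card_seventeen hy] at h1; norm_num at h1

end He

theorem he_3 : Row.{u} 3 (fun S _ => Spor.IsoHe S) := fun _ _ _ ⟨e⟩ => He.noSit_three.congr e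

theorem he_7 : Row.{u} 7 (fun S _ => Spor.IsoHe S) := fun _ _ _ ⟨e⟩ => He.noSit_seven.congr e

end Cfsg.Agent.TID.SO.B
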