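import Cfsg.Agent.TID.SO.B.Lst
import Cfsg.Agent.CpAutTThree.JTwo
import Cfsg.Agent.H315.RIM.J2Ten
import Cfsg.Agent.H302.Van.JTwoTools
import Cfsg.Agent.H305.OddJ3
import Cfsg.Agent.H488.PBRow.TitsThree
import Cfsg.Agent.EvenType.ChevTwoTits

/-!
# The row `KSporOdd`, part B (helper1, project TID): `J2`, `J3`, the Tits group, `p = 3`
-/

set_option autoImplicit false

namespace Cfsg.Agent.TID.SO.B

open Cfsg Subgroup Cfsg.Agent.TID Cfsg.Agent.TID.SO

universe u

theorem j2_3 : Row.{u} 3 (fun S _ => Spor.IsoJ2 S) := by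
  intro G _ _ h
  have : Fact (Nat.Prime 3) := ⟨Nat.prime_three⟩
  have hc := NotCT.Orders.j2 h
  refine noSit_of_idx' (r := 5) (k := 1) (by rw [hc]; norm_num) (by norm_num) (by norm_num) (fun z hz => ?_)
    fun y hy h9 => ?_
  · obtain ⟨e⟩ := h
    have h1 := hz.dvd Nat.prime_three (a := 3) (by rw [hc]; norm_num)
    rw [← card_C1_equiv e] at h1 ⊢
    rcases CpAutTThree.JTwo.card_three (x := e z) (by rw [e.orderOf_eq, hz.1]) with h2 | h2
    · rw [h2]; norm_num
    · rw [h2] at h1; norm_num at h1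
  · obtain ⟨t, w, Q, v, ρ, D⟩ := KFacts.J2.Facts.exists_dat_of h
    obtain ⟨x, -, hx, -, h300, -⟩ := H302.Van.JTwo.five_of_iso h
    obtain ⟨c, hc3⟩ := exists_prime_orderOf_dvd_card' (G := C1 y) 3 (dvd_trans (by norm_num) h9)
    rw [H315.RIM.J2Ten.card_of_three D.F hx h300 hy (c := (c : G)) (by rw [orderOf_coe, hc3]) (mem_C1.1 c.2).symm] at h9
    norm_num at h9

theorem j3_3 : Row.{u} 3 (fun S _ => Spor.IsoJ3 S) := by
  intro G _ _ h D hD
  have : Fact (Nat.Prime 3) := ⟨Nat.prime_three⟩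
  have key : ∀ v ∈ D, orderOf v = 3 → ¬ 3 ^ 4 ∣ Nat.card (C1 v) := by
    intro v hv hv3 h1
    rcases H305.OddJ3.cent_three h hv3 with h2 | h2
    · rw [h2] at h1; norm_num at h1
    · exact false_of_pow hD hv h2
  rcases hD.loc.dich with h1 | h1
  · obtain ⟨z, hz, hzc⟩ := exists_pc hD h1
    exact key z hz hzc.1 (hzc.dvd Nat.prime_three (by rw [NotCT.Orders.j3 h]; norm_num))
  · obtain ⟨v, hv, hv3, h2⟩ := exists_of_caseII hD.loc h1
    exact key v hv hv3 h2

theorem tits_3 : Row.{u} 3 (fun S _ => Lie.IsoTits S) := by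
  intro G _ _ h
  have : Fact (Nat.Prime 3) := ⟨Nat.prime_three⟩
  refine noSit_of_idx_two (EvenType.ChevTwoTits.charTwo h) (by norm_num) (k := 2)
    (by rw [NotCT.Orders.tits h]; norm_num) (by norm_num) fun z hz => ?_
  rw [H488.PBRow.TitsThree.card_cent_three h hz.1]
  norm_num

end Cfsg.Agent.TID.SO.B
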