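import Cfsg.Agent.TID.SO.B.Lst
import Cfsg.Agent.H854.Ore.J4Cent
import Cfsg.Agent.SevenCases.SporJ4

/-!
# The row `KSporOdd`, part B (helper1, project TID): `J4`, `p = 3, 11`
-/

set_option autoImplicit false

namespace Cfsg.Agent.TID.SO.B

open Cfsg Subgroup Cfsg.Agent.TID Cfsg.Agent.TID.SO

universe u

theorem j4_3 : Row.{u} 3 (fun S _ => Spor.IsoJ4 S) := by
  intro G _ _ h
  have : Fact (Nat.Prime 3) := ⟨Nat.prime_three⟩
  refine noSit_of_idx_two (SevenCases.SporJ4.charTwo h) (by norm_num) (k := 2)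
    (by rw [NotCT.Orders.j4 h]; norm_num) (by norm_num) fun z hz => ?_
  obtain ⟨e⟩ := h
  rw [← card_C1_equiv e, H854.Ore.cent_three (x := e z) (by rw [e.orderOf_eq, hz.1])]
  norm_num

theorem j4_11 : Row.{u} 11 (fun S _ => Spor.IsoJ4 S) := by
  intro G _ _ h
  have : Fact (Nat.Prime 11) := ⟨by norm_num⟩
  refine noSit_of_odd' (SevenCases.SporJ4.charTwo h) (by norm_num) fun r hr hr2 hrp hc => ?_
  obtain ⟨y, hy, h1⟩ := hc.sq_dvd
  have h2 := prime_mem (NotCT.Orders.j4 h)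
    [(2, 21), (3, 3), (5, 1), (7, 1), (11, 3), (23, 1), (29, 1), (31, 1), (37, 1), (43, 1)] (by decide +kernel) hr hy
  obtain ⟨e⟩ := h
  have hy' : orderOf (e y) = r := by rw [e.orderOf_eq, hy]
  have hQ : Nat.card (zpowers (e y)) = r := by rw [Nat.card_zpowers, hy']
  have F := H854.Ore.lc
  rw [← card_C1_equiv e] at h1
  simp only [List.map_cons, List.map_nil, List.mem_cons, List.not_mem_nil, or_false] at h2
  rcases h2 with rfl | rfl | rfl | rfl | rfl | rfl | rfl | rfl | rfl | rfl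
  · exact hr2 rfl
  · rw [H854.Ore.cent_three hy'] at h1; norm_num at h1
  · rw [← C1_zpowers, F.c5 _ hQ] at h1; norm_num at h1
  · rw [← C1_zpowers, F.c7 _ hQ] at h1; norm_num at h1
  · exact hrp rfl
  · rw [← C1_zpowers, F.cp 23 (by simp) _ hQ] at h1; norm_num at h1
  · rw [← C1_zpowers, F.cp 29 (by simp) _ hQ] at h1; norm_num at h1
  · rw [← C1_zpowers, F.cp 31 (by simp) _ hQ] at h1; norm_num at h1
  · rw [← C1_zpowers, F.cp 37 (by simp) _ hQ] at h1; norm_num at h1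
  · rw [← C1_zpowers, F.cp 43 (by simp) _ hQ] at h1; norm_num at h1

end Cfsg.Agent.TID.SO.B
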