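import Cfsg.Agent.TID.SO.B.Gen
import Cfsg.Agent.TID.SO.Asm

/-!
# The row `KSporOdd`, part B (helper1, project TID): the list of the primes
-/

set_option autoImplicit false

namespace Cfsg.Agent.TID.SO.B

open Cfsg Subgroup Cfsg.Agent.TID Cfsg.Agent.TID.SO

universe u

variable {G : Type u} [Group G]

theorem prime_mem {N : ℕ} (hN : Nat.card G = N) (l : List (ℕ × ℕ)) (hv : OrdDiv.valid l N = true) {y : G} {r : ℕ}
    (hr : r.Prime) (hy : orderOf y = r) : r ∈ l.map Prod.fst := by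
  obtain ⟨k, hk, -⟩ := OrdDiv.exists_pair hv hr le_rfl (by rw [pow_one, ← hN, ← hy]; exact orderOf_dvd_natCard y)
  exact List.mem_map.2 ⟨_, hk, rfl⟩

theorem C1_zpowers (x : G) : centralizer ((zpowers x : Subgroup G) : Set G) = C1 x := by
  rw [zpowers_eq_closure, centralizer_closure]

/-- the prime `r` divides `|C(z)|` for a `p`-central `z` -/
theorem noSit_of_pc [Finite G] {p : ℕ} [hp : Fact p.Prime] (h5 : ¬ p ^ 5 ∣ Nat.card G)
    (h : ∀ (z y : G) (r : ℕ), PC p z → r.Prime → r ≠ p → orderOf y = r → r ∣ Nat.card (C1 z) →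
      ¬ p ^ 2 ∣ Nat.card (C1 y)) : NoSit p G := by
  intro D hD
  obtain ⟨z, hz, hzc⟩ := exists_pc hD (hD.caseI h5)
  obtain ⟨r, y, hr, hrp, hy, hDy⟩ := hD.exists_prime
  exact h z y r hzc hr hrp hy (hy ▸ dvd_of_comm (mem_C1.1 (hDy hz)).symm)
    (hD.loc.rk.sq_dvd.trans (card_dvd_of_le hDy))

/-- a power is conjugate to `c ≠ 1` -/
theorem card_of_pow [Finite G] {p : ℕ} [hp : Fact p.Prime] {x c g : G} {k : ℕ} (hx : orderOf x = p) (hc : c ≠ 1)
    (h : g * x ^ k * g⁻¹ = c) : Nat.card (C1 x) = Nat.card (C1 c) :=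
  H19.Odd.Heis.card_cent_eq (g := g) (H19.Odd.Heis.zpowers_eq_of_pow (r := p) (m := k)
    (by rw [← MulAut.conj_apply, MulEquiv.orderOf_eq, hx]) hc (by rw [conj_pow, h]))

end Cfsg.Agent.TID.SO.B
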