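import Cfsg.Agent.TID.SO.B.Lst
import Cfsg.Agent.H805.NilRu
import Cfsg.Agent.H104.Wf.Ru
import Cfsg.Agent.H753.FxRu
import Cfsg.Agent.H629.K6.Ru
import Cfsg.Agent.H973.RG.ON
import Cfsg.Agent.H808.ClParts

/-!
# The row `KSporOdd`, part B (helper1, project TID): `Ru`, `p = 3, 5`, and `ON`, `p = 7`
-/

set_option autoImplicit false
set_option maxRecDepth 100000
set_option exponentiation.threshold 5000

namespace Cfsg.Agent.TID.SO.B

open Cfsg Subgroup Cfsg.Agent.TID Cfsg.Agent.TID.SO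

universe u

namespace Ru

open Cfsg.Agent.SporadicB Cfsg.Agent.RuD.Letters Cfsg.Agent.SporRec.TCUpperCert

theorem card_Ru : Nat.card RuOrder.H = 145926144000 := NotCT.Orders.ru ⟨RuLat.Main.equiv.symm⟩

theorem c_ne : (wprod ml H51.Rad3.Ru.wc : RuOrder.H) ≠ 1 :=
  H978.RadRu.ne_one_of (b := 29) (by norm_num) (by decide +kernel)

/-- the elements of order 3 -/
theorem eight_dvd {z : RuOrder.H} (hz : orderOf z = 3) : 2 ^ 3 ∣ Nat.card (C1 z) := by
  have := CpAutRuFive.finite_H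
  have h3 : Fact (Nat.Prime 3) := ⟨Nat.prime_three⟩
  have h24 := H753.FxRu.orderOf_w24
  have h8 : orderOf ((wprod ml H753.FxRu.w24 : RuOrder.H) ^ 8) = 3 := by
    rw [orderOf_pow' _ (by norm_num), h24]
    norm_num
  obtain ⟨k, g, h1⟩ := H104.Wf.Ru.one_class z hz
  obtain ⟨k', g', h2⟩ := H104.Wf.Ru.one_class _ h8
  rw [card_of_pow hz c_ne h1, ← card_of_pow h8 c_ne h2]
  refine dvd_trans ?_ (dvd_of_comm (Commute.pow_self (wprod ml H753.FxRu.w24 : RuOrder.H) 8).eq)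
  rw [h24]
  norm_num

theorem noSit_three : NoSit 3 RuOrder.H := by
  have := CpAutRuFive.finite_H
  have h3 : Fact (Nat.Prime 3) := ⟨Nat.prime_three⟩
  refine noSit_of_idx' (r := 2) (k := 3) (by rw [card_Ru]; norm_num) (by norm_num) (by norm_num)
    (fun z hz => eight_dvd hz.1) fun y hy h9 => ?_
  rcases H805.NilSp.cent_two_Ru hy with h1 | h1
  · rw [h1] at h9; norm_num at h9
  · rw [h1] at h9; norm_num at h9

open Cfsg.Agent.H629.K6.Ru in
theorem noSit_five : NoSit 5 RuOrder.H := by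
  have := CpAutRuFive.finite_H
  have h5 : Fact (Nat.Prime 5) := ⟨by norm_num⟩
  have h4 : ¬ 5 ^ 4 ∣ Nat.card RuOrder.H := by rw [card_Ru]; norm_num
  refine noSit_of_pc (by rw [card_Ru]; norm_num) fun z y r hz hr hrp hy h1 h2 => ?_
  rw [pc_card h4 Q_p b_mem x_mem (by rw [comm_b]; exact fun h => z_ne (mul_eq_right.1 h))
    (pc_of_dvd (n := 3) order_z (card_Q_dvd.trans (card_dvd_of_le Q_le)) h4) hz] at h1
  have h3 : r ∣ 2 ^ 3 * 5 ^ 3 := by
    rcases card_Cz.1 with h6 | h6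
    · rw [h6] at h1; exact h1.trans (by norm_num)
    · rw [h6] at h1; exact h1.trans (by norm_num)
  rcases (hr.dvd_mul).1 h3 with h6 | h6
  · obtain rfl := (Nat.prime_dvd_prime_iff_eq hr Nat.prime_two).1 (hr.dvd_of_dvd_pow h6)
    rcases H805.NilSp.cent_two_Ru hy with h7 | h7
    · rw [h7] at h2; norm_num at h2
    · rw [h7] at h2; norm_num at h2
  · exact hrp ((Nat.prime_dvd_prime_iff_eq hr h5.out).1 (hr.dvd_of_dvd_pow h6))

end Ru

theorem ru_3 : Row.{u} 3 (fun S _ => Spor.IsoRu S) := fun _ _ _ ⟨e⟩ => Ru.noSit_three.congr (e.trans RuLat.Main.equiv)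

theorem ru_5 : Row.{u} 5 (fun S _ => Spor.IsoRu S) := fun _ _ _ ⟨e⟩ => Ru.noSit_five.congr (e.trans RuLat.Main.equiv)

theorem noSit_on : NoSit 7 Spor.ON := by
  have := H973.RG.ONan.fin
  have h7 : Fact (Nat.Prime 7) := ⟨by norm_num⟩
  refine noSit_of_all fun r hr hrp hc => ?_
  obtain ⟨v, hv, h1⟩ := hc.cent hr hrp
  have h3 : r ∣ 2 ^ 9 * 7 ^ 3 := ((dvd_mul_left _ _).trans h1).trans (H973.RG.ONan.coprime_part hv)
  rcases (hr.dvd_mul).1 h3 with h6 | h6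
  · obtain rfl := (Nat.prime_dvd_prime_iff_eq hr Nat.prime_two).1 (hr.dvd_of_dvd_pow h6)
    obtain ⟨y, hy, h2⟩ := hc.sq_dvd
    rw [H808.ClParts.cent_on ⟨MulEquiv.refl _⟩ y hy] at h2
    norm_num at h2
  · exact hrp ((Nat.prime_dvd_prime_iff_eq hr h7.out).1 (hr.dvd_of_dvd_pow h6))

theorem on_7 : Row.{u} 7 (fun S _ => Spor.IsoON S) := fun _ _ _ ⟨e⟩ => noSit_on.congr e

end Cfsg.Agent.TID.SO.B
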